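import Groth.Agent.Sga3.H811.Lift
import Groth.Agent.Sga3.H804.QaKer
import Groth.Agent.S1128

/-!
# Characters of tori which are non-trivial on all fibres are faithfully flat
-/

set_option autoImplicit false
universe u
open CategoryTheory MonoidalCategory CartesianMonoidalCategory MonObj GrpObj AlgebraicGeometry Limits

namespace K979.Chr

open Groth.Agent Groth.Agent.Sga3B Groth.Agent.Sga3.H811 Groth.Agent.Sga3.H811.Pts

section
variable {S : Scheme.{u}} {T : Over S} [GrpObj T]

theorem surjective_of_ne (hT : Red.IsTorus T) (α : T ⟶ Red.Gm S) [IsMonHom α]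
    (hα : ∀ s : S, (Over.pullback (Red.geomPt s)).map α ≠ 1) : Surjective α.left := by
  constructor
  intro x
  obtain ⟨X', f, t, -, ⟨x', hx'⟩, ht⟩ := Lift.exists_lift hT α hα (Red.Gm S) (𝟙 _) x
  refine ⟨t.left x', ?_⟩
  rw [← Scheme.Hom.comp_apply, ← Over.comp_left, ht, Category.comp_id, hx']

set_option backward.isDefEq.respectTransparency.types false in
theorem isAffineHom_gm (S : Scheme.{u}) : IsAffineHom (Red.Gm S).hom := by
  have h1 : IsAffineHom (Red.diag (ULift.{u} ℤ) ℤ).hom :=
    inferInstanceAs (IsAffineHom (Spec.map (CommRingCat.ofHom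
      (algebraMap (ULift.{u} ℤ) (MonoidAlgebra (ULift.{u} ℤ) (Multiplicative ℤ))))))
  exact MorphismProperty.pullback_snd _ _ h1

set_option backward.isDefEq.respectTransparency.types false in
lemma smooth_gm (S : Scheme.{u}) : Smooth (Red.Gm S).hom := by
  have h1 : Smooth (Red.diag (ULift.{u} ℤ) ℤ).hom := TorusAlgClosed.diag_smooth ℤ
  exact MorphismProperty.pullback_snd _ _ h1

/-- The fibre product of a homomorphism with a map that lifts. -/
theorem isPullback_lift {G H X K : Over S} [GrpObj G] [GrpObj H] (α : G ⟶ H) [IsMonHom α] {k : K ⟶ G}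
    (hk : AlgGrp.IsKernel k α) (f : X ⟶ H) (t : X ⟶ G) (ht : t ≫ α = f) :
    IsPullback ((fst K X ≫ k) * (snd K X ≫ t)) (snd K X) α f := by
  have hk1 : k ≫ α = 1 := by
    have := hk.w
    rw [this]; rfl
  refine ⟨⟨?_⟩, ⟨PullbackCone.IsLimit.mk _ (fun s => lift (hk.lift (s.fst * (s.snd ≫ t)⁻¹) (toUnit _) ?_) s.snd)
    (fun s => ?_) (fun s => ?_) (fun s m h1 h2 => ?_)⟩⟩
  · rw [MonObj.mul_comp, Category.assoc, Category.assoc, hk1, ht, MonObj.comp_one, _root_.one_mul]
  · have h := s.condition
    rw [MonObj.mul_comp, GrpObj.inv_comp, Category.assoc, ht, h, mul_inv_cancel]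
    rfl
  · rw [MonObj.comp_mul, lift_fst_assoc, lift_snd_assoc, IsPullback.lift_fst, inv_mul_cancel_right]
  · rw [lift_snd]
  · apply CartesianMonoidalCategory.hom_ext
    · rw [lift_fst]
      apply hk.hom_ext
      · rw [IsPullback.lift_fst, ← h1, ← h2, MonObj.comp_mul, Category.assoc, Category.assoc,
          mul_inv_cancel_right]
      · exact toUnit_unique _ _
    · rw [lift_snd, h2]

theorem flat_of_ne (hT : Red.IsTorus T) (α : T ⟶ Red.Gm S) [IsMonHom α]
    (hα : ∀ s : S, (Over.pullback (Red.geomPt s)).map α ≠ 1) : Flat α.left := by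
  choose X' f t hf hx ht using fun x => Lift.exists_lift hT α hα (Red.Gm S) (𝟙 _) x
  have hk := Sga3.H804.QaKer.isKernel_pullback (H := Red.Gm S) α
  have hGa : IsAffineHom (Red.Gm S).hom := isAffineHom_gm S
  have hGp : LocallyOfFinitePresentation (Red.Gm S).hom := by
    have : Smooth (Red.Gm S).hom := smooth_gm S
    infer_instance
  have hK : Flat (pullback α η[Red.Gm S]).hom := Sga3.H804.QaKer.flat_ker hT α hk
  let K := pullback α η[Red.Gm S]
  let φ : ∀ x, K ⊗ X' x ⟶ T := fun x => (fst K (X' x) ≫ pullback.fst α η[Red.Gm S]) * (snd K (X' x) ≫ t x)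
  have hpb : ∀ x, IsPullback (φ x) (snd K (X' x)) α (f x) := fun x =>
    isPullback_lift α hk (f x) (t x) (by rw [ht, Category.comp_id])
  have hpb' : ∀ x, IsPullback (φ x).left (snd K (X' x)).left α.left (f x).left := fun x =>
    (hpb x).map (Over.forget S)
  have hφ : ∀ x, Flat (φ x).left := fun x => MorphismProperty.of_isPullback (hpb' x).flip (hf x)
  have hsnd : ∀ x, Flat (snd K (X' x)).left := fun x => by
    have : Flat (pullback.snd K.hom (X' x).hom) := inferInstance
    exact this
  let F : (∐ fun x => (K ⊗ X' x).left) ⟶ T.left := Sigma.desc fun x => (φ x).left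
  have hF : Flat F := IsZariskiLocalAtSource.sigmaDesc (P := @Flat) hφ
  have hs : Surjective F := by
    constructor
    intro y
    obtain ⟨x', hx'⟩ := hx (α.left y)
    obtain ⟨z, hz, -⟩ := Scheme.exists_preimage_of_isPullback (hpb' (α.left y)) y x' hx'.symm
    refine ⟨(Sigma.ι (fun x => (K ⊗ X' x).left) (α.left y)) z, ?_⟩
    rw [← Scheme.Hom.comp_apply, Sigma.ι_desc, hz]
  have hFα : Flat (F ≫ α.left) := by
    have h1 : F ≫ α.left = Sigma.desc fun x => (snd K (X' x)).left ≫ (f x).left := by
      apply Sigma.hom_ext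
      intro x
      rw [Sigma.ι_desc_assoc, Sigma.ι_desc]
      exact (hpb' x).w
    rw [h1]
    exact IsZariskiLocalAtSource.sigmaDesc (P := @Flat) fun x => inferInstance
  exact S1128.result F α.left

/-- The identity of `𝔾_m` is not the trivial homomorphism over a non-empty base. -/
theorem not_one_bc {S' : Scheme.{u}} (g : S' ⟶ S) (hne : Nonempty S') :
    𝟙 (Red.bc g (Red.Gm S)) ≠ 1 := by
  intro h
  obtain ⟨s⟩ := hne
  let L := AlgebraicClosure (S'.residueField s)
  obtain ⟨a, ha⟩ : ∃ a : L, a ≠ 0 ∧ a ≠ 1 := by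
    classical
    obtain ⟨a, ha⟩ := Infinite.exists_notMem_finset ({0, 1} : Finset L)
    simp only [Finset.mem_insert, Finset.mem_singleton, not_or] at ha
    exact ⟨a, ha⟩
  let X : Over S' := Over.mk (Red.geomPt s)
  let e := Scheme.ΓSpecIso (CommRingCat.of L)
  have hau : IsUnit (e.inv a) := (isUnit_iff_ne_zero.mpr ha.1).map e.inv.hom
  let z : (Over.map g).obj X ⟶ Red.Gm S := gmPt ((Over.map g).obj X) hau.unit
  have h1 : DSPts.bcEquiv g X (Red.Gm S) z = DSPts.bcEquiv g X (Red.Gm S) 1 := by
    rw [map_one, ← MonObj.comp_one (DSPts.bcEquiv g X (Red.Gm S) z), ← h, Category.comp_id]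
  have h2 := congrArg Red.gmFn ((DSPts.bcEquiv g X (Red.Gm S)).injective h1)
  rw [gmFn_one, gmFn_gmPt] at h2
  have h3 : e.inv a = 1 := h2
  apply ha.2
  have h4 : e.hom (e.inv a) = e.hom 1 := by rw [h3]
  rw [map_one] at h4
  rw [← h4]
  change a = (e.inv ≫ e.hom) a
  rw [e.inv_hom_id]
  rfl

theorem isPullback_map_left {S' : Scheme.{u}} (t : S' ⟶ S) {X Y : Over S} (f : X ⟶ Y) :
    IsPullback ((Over.pullback t).map f).left (pullback.fst X.hom t) (pullback.fst Y.hom t) f.left := by
  have h1 : IsPullback (pullback.snd Y.hom t) (pullback.fst Y.hom t) t Y.hom :=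
    (IsPullback.of_hasPullback _ _).flip
  have h2 : IsPullback (((Over.pullback t).map f).left ≫ pullback.snd Y.hom t)
      (pullback.fst X.hom t) t (f.left ≫ Y.hom) := by
    have h3 : ((Over.pullback t).map f).left ≫ pullback.snd Y.hom t = pullback.snd X.hom t :=
      Over.w ((Over.pullback t).map f)
    rw [h3, Over.w f]
    exact (IsPullback.of_hasPullback _ _).flip
  have h4 : ((Over.pullback t).map f).left ≫ pullback.fst Y.hom t = pullback.fst X.hom t ≫ f.left := by
    change pullback.lift (pullback.fst X.hom t ≫ f.left) (pullback.snd X.hom t) _ ≫ _ = _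
    exact pullback.lift_fst _ _ _
  exact IsPullback.of_right h2 h4 h1

/-- Faithfully flat characters are non-trivial after every base change. -/
theorem ne_one_of_flat (α : T ⟶ Red.Gm S) [IsMonHom α] [Flat α.left] [Surjective α.left] {S' : Scheme.{u}}
    (g : S' ⟶ S) (hne : Nonempty S') : (Over.pullback g).map α ≠ 1 := by
  intro h
  apply not_one_bc (S := S) g hne
  have h0 := isPullback_map_left g α
  have h1 : Flat ((Over.pullback g).map α).left := MorphismProperty.of_isPullback h0.flip inferInstance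
  have h2 : Surjective ((Over.pullback g).map α).left := MorphismProperty.of_isPullback h0.flip inferInstance
  have h3 : Epi ((Over.pullback g).map α).left := Flat.epi_of_flat_of_surjective _
  have h4 : Epi ((Over.pullback g).map α) := Over.epi_of_epi_left _
  rw [← cancel_epi ((Over.pullback g).map α), Category.comp_id, MonObj.comp_one]
  exact h

end

end K979.Chr
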