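import Groth.Agent.SGA3x.K7.SubLift
import Groth.Agent.Sga3B.RG.BrDiag
import Groth.Prelude.Def_Red

/-!
# The invariant integral of a group algebra; lifting homomorphisms from diagonalisable groups
-/

set_option autoImplicit false
universe u

open CategoryTheory MonoidalCategory CartesianMonoidalCategory MonObj GrpObj AlgebraicGeometry
open TensorProduct Limits Groth.Agent.Sga3B Groth.Agent.Sga3B.BcPts

namespace K979.Diag

section
variable (R : Type*) [CommRing R] (M : Type*) [Group M]

/-- The coefficient of the unit. -/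
noncomputable def coeff : MonoidAlgebra R M →ₗ[R] R :=
  Finsupp.lapply (1 : M) ∘ₗ (MonoidAlgebra.coeffLinearEquiv R).toLinearMap

@[simp] lemma coeff_single [DecidableEq M] (m : M) (r : R) :
    coeff R M (MonoidAlgebra.single m r) = if m = 1 then r else 0 := by
  change (MonoidAlgebra.single m r).coeff 1 = _
  rw [MonoidAlgebra.coeff_single, Finsupp.single_apply]

lemma comul_single' (m : M) (r : R) :
    Coalgebra.comul (R := R) (MonoidAlgebra.single m r) =
      MonoidAlgebra.single m (1 : R) ⊗ₜ[R] MonoidAlgebra.single m r := by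
  rw [MonoidAlgebra.comul_single, CommSemiring.comul_apply]
  rfl

end

section Coeff
variable (R : Type*) [CommRing R] (M : Type*) [CommGroup M]

theorem isInt_coeff : K7.IntDesc.IsInt (R := R) (D := MonoidAlgebra R M) (coeff R M) := by
  classical
  refine ⟨?_, fun d => ?_, fun d => ?_⟩
  · rw [MonoidAlgebra.one_def, coeff_single, if_pos rfl]
  · induction d using MonoidAlgebra.induction_linear with
    | zero => simp
    | add a b ha hb => simp only [map_add, ha, hb, add_tmul]
    | single m r =>
      rw [comul_single', LinearMap.rTensor_tmul, coeff_single, coeff_single, MonoidAlgebra.one_def]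
      split_ifs with h
      · rw [h]
        have h1 : (MonoidAlgebra.single (1 : M) r : MonoidAlgebra R M) = r • MonoidAlgebra.single 1 1 := by
          rw [MonoidAlgebra.smul_single, smul_eq_mul, _root_.mul_one]
        rw [h1, ← smul_tmul, smul_eq_mul, _root_.mul_one]
      · rw [zero_tmul, zero_tmul]
  · induction d using MonoidAlgebra.induction_linear with
    | zero => simp
    | add a b ha hb => simp only [map_add, ha, hb, tmul_add]
    | single m r =>
      rw [comul_single', LinearMap.lTensor_tmul, coeff_single, MonoidAlgebra.one_def]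
      split_ifs with h
      · rw [h]
      · rw [tmul_zero, tmul_zero]

end Coeff

/-- Diagonalisable groups over an affine base are of multiplicative type. -/
theorem isMT_diag (R : Type u) [CommRing R] (M : Type) [AddCommGroup M] : K7.MTHaar.IsMT (Red.diag R M) := by
  refine ⟨_, 𝟙 _, inferInstance, inferInstance, fun V hV => ⟨V, hV.isCompact, by simp⟩, fun s => ⟨⊤, trivial, M,
    inferInstance, ?_⟩⟩
  exact ⟨BcIso.bcMapIso _ (Groth.Agent.Sga3B.RG.BrDiag.diagIso R M) ≪≫ DsBc.constIso _ (Red.diag (ULift.{u} ℤ) M)⟩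

/-- The ideal of the closed subscheme `Spec R/I`, on all of `Spec R`, is nilpotent if `I` is. -/
theorem isNilpotent_ker {R : Type u} [CommRing R] {I : Ideal R} (hI : IsNilpotent I) (x : Spec (CommRingCat.of R)) :
    ∃ U : (Spec (CommRingCat.of R)).affineOpens, x ∈ (U : (Spec (CommRingCat.of R)).Opens) ∧
      IsNilpotent ((Spec.map (CommRingCat.ofHom (Ideal.Quotient.mk I))).ker.ideal U) := by
  refine ⟨⟨⊤, isAffineOpen_top _⟩, trivial, ?_⟩
  obtain ⟨n, hn⟩ := hI
  refine ⟨n, ?_⟩
  rw [Scheme.Hom.ker_apply]
  let e := (Scheme.ΓSpecIso (CommRingCat.of R)).hom.hom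
  have he : Function.Injective e := (ConcreteCategory.bijective_of_isIso (Scheme.ΓSpecIso (CommRingCat.of R)).hom).1
  have h1 : RingHom.ker ((Spec.map (CommRingCat.ofHom (Ideal.Quotient.mk I))).app ⊤).hom ≤ I.comap e := by
    intro a ha
    rw [RingHom.mem_ker] at ha
    have h2 := congr($(Scheme.ΓSpecIso_naturality (CommRingCat.ofHom (Ideal.Quotient.mk I))) a)
    rw [CommRingCat.comp_apply, CommRingCat.comp_apply] at h2
    rw [Ideal.mem_comap]
    apply Ideal.Quotient.eq_zero_iff_mem.mp
    refine h2.symm.trans ?_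
    have h3 : (Spec.map (CommRingCat.ofHom (Ideal.Quotient.mk I))).appTop a = 0 := ha
    rw [h3, map_zero]
  refine le_bot_iff.mp ((Ideal.pow_right_mono h1 n).trans ((Ideal.le_comap_pow e n).trans ?_))
  rw [hn]
  intro a ha
  rw [Ideal.mem_comap] at ha
  exact he (by rw [map_zero]; exact ha)

/-- Points of a group over a base point, when a homomorphism is trivial after base change. -/
theorem comp_eq_one {S S₀ : Scheme.{u}} (i₀ : S₀ ⟶ S) {G X : Over S} [GrpObj G] [GrpObj X] (f : G ⟶ X)
    (h : (Over.pullback i₀).map f = 1) {Y : Over S} (p : Y ⟶ Over.mk i₀) (g : Y ⟶ G) : g ≫ f = 1 := by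
  have h1 : ∀ (T : Over S₀) (q : (Over.map i₀).obj T ⟶ G), q ≫ f = 1 := by
    intro T q
    apply (bcEquiv i₀ T X).injective
    rw [bcEquiv_comp, h, bcEquiv_one, MonObj.comp_one]
  have h2 := h1 (Over.mk p.left) ((overIso p).hom ≫ g)
  rw [Category.assoc] at h2
  rw [← cancel_epi (overIso p).hom, h2, MonObj.comp_one]

theorem eq_one_of_mod {R : Type u} [CommRing R] {I : Ideal R} (hI : IsNilpotent I) {G : Over (Spec (CommRingCat.of R))}
    [GrpObj G] (hG : K7.MTHaar.IsMT G) {X : Over (Spec (CommRingCat.of R))} [GrpObj X]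
    [LocallyOfFinitePresentation X.hom] (f : G ⟶ X) [IsMonHom f]
    (h : (Over.pullback (Spec.map (CommRingCat.ofHom (Ideal.Quotient.mk I)))).map f = 1) : f = 1 := by
  let a : AlgGrp.Action G X := K7.ActTriv.mkAct ((fst G X ≫ f) * snd G X)
    (fun T y => by
      rw [MonObj.comp_mul, lift_snd, lift_fst_assoc, MonObj.one_comp, _root_.one_mul])
    (fun T g h y => by
      simp only [MonObj.comp_mul, lift_snd, lift_fst_assoc, MonObj.mul_comp, _root_.mul_assoc])
  have ha : ∀ (T : Over (Spec (CommRingCat.of R))) (g : T ⟶ G) (x : T ⟶ X), lift g x ≫ a.act = (g ≫ f) * x := by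
    intro T g x
    change lift g x ≫ ((fst G X ≫ f) * snd G X) = _
    rw [MonObj.comp_mul, lift_snd, lift_fst_assoc]
  have : IsClosedImmersion (Spec.map (CommRingCat.ofHom (Ideal.Quotient.mk I))) :=
    IsClosedImmersion.spec_of_surjective _ Ideal.Quotient.mk_surjective
  have h1 := K7.ActTriv.act_eq_snd (Spec.map (CommRingCat.ofHom (Ideal.Quotient.mk I))) (isNilpotent_ker hI) hG a
    (fun Y p g x => by rw [ha, comp_eq_one _ f h p g, _root_.one_mul])
  have h2 := ha G (𝟙 G) 1
  rw [h1, lift_snd, Category.id_comp, _root_.mul_one] at h2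
  exact h2.symm

end K979.Diag
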