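import Groth.Agent.SGA3x.K16.FixSmooth
import Groth.Agent.Sga3B.CentNorm900
import Groth.Agent.Sga3B.AdAff
import Groth.Agent.Sga3B.TorusIrr
import Groth.Agent.Sga3B.RadOpen.Main
import Groth.Agent.Sga3B.SplitBc264
import Groth.Agent.Sga3.H794.RedIdNormal
import Groth.Agent.Red.K979.Semi
import Groth.Agent.AGF.K492.Act
import Groth.Agent.Sga3B.BcPts
import Groth.Prelude.Def_ActBC
import Groth.Agent.S3908

/-!
# Fixed points of groups of multiplicative type acting by group automorphisms
-/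

set_option autoImplicit false
universe u
open CategoryTheory MonoidalCategory CartesianMonoidalCategory MonObj GrpObj AlgebraicGeometry Limits

namespace K979.FixTor

open Groth.Agent Groth.Agent.Sga3B

section rep
variable {S : Scheme.{u}} {G X : Over S} [GrpObj G] (a : AlgGrp.Action G X)

/-- The fixed points of a group of multiplicative type acting on a smooth separated scheme form a smooth closed
subscheme. -/
theorem exists_fixed (hG : SGA3x.IsMultTypeFT G) [Smooth X.hom] [IsSeparated X.hom] :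
    ∃ (Z : Over S) (z : Z ⟶ X), IsClosedImmersion z.left ∧ Smooth Z.hom ∧
      ∀ (T : Over S) (x : T ⟶ X), (∃ y : T ⟶ Z, y ≫ z = x) ↔
        ∀ (T' : Over S) (t : T' ⟶ T) (g : T' ⟶ G), lift g (t ≫ x) ≫ a.act = t ≫ x := by
  let d : X ⟶ X ⊗ X := lift (𝟙 X) (𝟙 X)
  have hd : d.left = pullback.diagonal X.hom := rfl
  have hd1 : IsClosedImmersion d.left := by
    rw [hd]
    exact IsSeparated.isClosedImmersion_diagonal
  obtain ⟨Z, z, hz, huniv, -⟩ := K21.ClosedCond.exists_closed_map (X := X) (Q := G)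
    (K21.MultLoc.isMult_of_isMultTypeFT hG) (lift (lift (snd X G) (fst X G) ≫ a.act) (fst X G)) d
  have key : ∀ (T : Over S) (x : T ⟶ X), (∃ y : T ⟶ Z, y ≫ z = x) ↔
      ∀ (T' : Over S) (t : T' ⟶ T) (g : T' ⟶ G), lift g (t ≫ x) ≫ a.act = t ≫ x := by
    intro T x
    rw [huniv]
    refine forall_congr' fun T' => forall_congr' fun t => forall_congr' fun g => ?_
    have e : lift (t ≫ x) g ≫ lift (lift (snd X G) (fst X G) ≫ a.act) (fst X G) =
        lift (lift g (t ≫ x) ≫ a.act) (t ≫ x) := by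
      apply CartesianMonoidalCategory.hom_ext
      · rw [Category.assoc, lift_fst, lift_fst, comp_lift_assoc, lift_snd, lift_fst]
      · rw [Category.assoc, lift_snd, lift_snd, lift_fst]
    rw [e]
    constructor
    · rintro ⟨b, hb⟩
      have h1 := congrArg (fun k => k ≫ fst X X) hb
      have h2 := congrArg (fun k => k ≫ snd X X) hb
      simp only [d, Category.assoc, lift_fst, lift_snd, Category.comp_id] at h1 h2
      rw [← h1, h2]
    · intro h
      refine ⟨t ≫ x, ?_⟩
      rw [h]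
      apply CartesianMonoidalCategory.hom_ext <;> simp [d]
  refine ⟨Z, z, hz, ?_, key⟩
  have hmono : Mono z.left := inferInstance
  have h := K16.FixSmooth.main a hG z.left (fun T x => by
    rw [← key]
    constructor
    · rintro ⟨y, hy⟩
      refine ⟨Over.homMk y (by rw [← Over.w z, ← Category.assoc, hy, Over.w]), ?_⟩
      ext1
      exact hy
    · rintro ⟨y, hy⟩
      exact ⟨y.left, by rw [← Over.comp_left, hy]⟩)
  rwa [Over.w z] at h

end rep

section sub
variable {S : Scheme.{u}} {G X : Over S} [GrpObj G] [GrpObj X] (a : AlgGrp.Action G X)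

/-- Being fixed. -/
def Fixed {T : Over S} (x : T ⟶ X) : Prop :=
  ∀ (T' : Over S) (t : T' ⟶ T) (g : T' ⟶ G), lift g (t ≫ x) ≫ a.act = t ≫ x

variable (hmul : ∀ (T : Over S) (g : T ⟶ G) (x x' : T ⟶ X),
      lift g (x * x') ≫ a.act = (lift g x ≫ a.act) * (lift g x' ≫ a.act))

include hmul

lemma act_one {T : Over S} (g : T ⟶ G) : lift g (1 : T ⟶ X) ≫ a.act = 1 := by
  have h := hmul T g 1 1
  rw [_root_.mul_one] at h
  exact (mul_eq_left.mp h.symm)

lemma act_inv {T : Over S} (g : T ⟶ G) (x : T ⟶ X) : lift g x⁻¹ ≫ a.act = (lift g x ≫ a.act)⁻¹ := by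
  rw [eq_inv_iff_mul_eq_one, ← hmul, inv_mul_cancel, act_one a hmul]

/-- The fixed points are a subgroup. -/
theorem exists_grpObj {Z : Over S} (z : Z ⟶ X) [Mono z]
    (hZ : ∀ (T : Over S) (x : T ⟶ X), (∃ y : T ⟶ Z, y ≫ z = x) ↔ Fixed a x) : ∃ _ : GrpObj Z, IsMonHom z := by
  refine CentNorm900.exists_grpObj z (fun T x => Fixed a x) hZ ?_ ?_ ?_
  · intro T x x' hx hx' T' t g
    rw [MonObj.comp_mul, hmul, hx, hx']
  · intro T T' t g
    rw [MonObj.comp_one, act_one a hmul]
  · intro T x hx T' t g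
    rw [GrpObj.comp_inv, act_inv a hmul, hx]

end sub

section conn
variable {K : Type u} [Field K] [IsAlgClosed K] {Q H : Over (Spec (CommRingCat.of K))} [GrpObj Q] [GrpObj H]
  (a : AlgGrp.Action Q H)

/-- The fixed points of a torus acting by automorphisms on a connected smooth affine group are connected. -/
theorem connected_fixed (hQ : Red.IsTorus Q) [IsAffine H.left] [Smooth H.hom] [ConnectedSpace H.left]
    (hmul : ∀ (T : Over (Spec (CommRingCat.of K))) (g : T ⟶ Q) (x x' : T ⟶ H),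
      lift g (x * x') ≫ a.act = (lift g x ≫ a.act) * (lift g x' ≫ a.act))
    {F : Over (Spec (CommRingCat.of K))} (f : F ⟶ H) [Mono f]
    (hF : ∀ (T : Over (Spec (CommRingCat.of K))) (x : T ⟶ H), (∃ y : T ⟶ F, y ≫ f = x) ↔ Fixed a x) :
    ConnectedSpace F.left := by
  obtain ⟨P, _, e, he⟩ := Semi.exists_semi' a.act (fun T h => K492.Act.lift_one_act a h)
    (fun T q q' h => K492.Act.lift_mul_act a q q' h) hmul
  let p : P ⟶ H := e.hom ≫ fst H Q
  let q : P ⟶ Q := e.hom ≫ snd H Q
  have hext : ∀ {T : Over (Spec (CommRingCat.of K))} (x y : T ⟶ P), x ≫ p = y ≫ p → x ≫ q = y ≫ q → x = y := by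
    intro T x y h1 h2
    rw [← cancel_mono e.hom]
    apply CartesianMonoidalCategory.hom_ext
    · simpa only [p, Category.assoc] using h1
    · simpa only [q, Category.assoc] using h2
  have hp : ∀ {T : Over (Spec (CommRingCat.of K))} (x y : T ⟶ P),
      (x * y) ≫ p = (x ≫ p) * (lift (x ≫ q) (y ≫ p) ≫ a.act) := by
    intro T x y
    rw [← Category.assoc, he, lift_fst]
  have hq : ∀ {T : Over (Spec (CommRingCat.of K))} (x y : T ⟶ P), (x * y) ≫ q = (x ≫ q) * (y ≫ q) := by
    intro T x y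
    rw [← Category.assoc, he, lift_snd]
  obtain ⟨j, hjp, hjq⟩ : ∃ j : Q ⟶ P, j ≫ p = 1 ∧ j ≫ q = 𝟙 Q :=
    ⟨lift 1 (𝟙 Q) ≫ e.inv, by simp [p], by simp [q]⟩
  have hj1 : IsMonHom j := InfConjFam.isMonHom_of_mul j fun T x y => by
    apply hext
    · rw [hp, Category.assoc, Category.assoc, Category.assoc, Category.assoc, hjp, MonObj.comp_one,
        MonObj.comp_one, MonObj.comp_one, _root_.one_mul, act_one a hmul]
    · rw [hq, Category.assoc, Category.assoc, Category.assoc, hjq, Category.comp_id, Category.comp_id,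
        Category.comp_id]
  have hj2 : Mono j := mono_of_mono_fac hjq
  obtain ⟨c, hcp, hcq⟩ : ∃ c : F ⊗ Q ⟶ P, c ≫ p = fst F Q ≫ f ∧ c ≫ q = snd F Q :=
    ⟨(f ⊗ₘ 𝟙 Q) ≫ e.inv, by simp [p], by simp [q]⟩
  have hc1 : Mono c := by
    refine ⟨fun {T} x y hxy => ?_⟩
    apply CartesianMonoidalCategory.hom_ext
    · rw [← cancel_mono f, Category.assoc, Category.assoc, ← hcp, ← Category.assoc, hxy, Category.assoc]
    · rw [← hcq, ← Category.assoc, hxy, Category.assoc]
  have key : ∀ (T : Over (Spec (CommRingCat.of K))) (g : T ⟶ P), (∃ y : T ⟶ F ⊗ Q, y ≫ c = g) ↔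
      ∀ (T' : Over (Spec (CommRingCat.of K))) (t : T' ⟶ T) (h : T' ⟶ Q),
        (t ≫ g) * (h ≫ j) = (h ≫ j) * (t ≫ g) := by
    intro T g
    have h1 : (∃ y : T ⟶ F ⊗ Q, y ≫ c = g) ↔ ∃ y : T ⟶ F, y ≫ f = g ≫ p := by
      constructor
      · rintro ⟨y, rfl⟩
        exact ⟨y ≫ fst F Q, by rw [Category.assoc, Category.assoc, hcp]⟩
      · rintro ⟨y, hy⟩
        refine ⟨lift y (g ≫ q), ?_⟩
        apply hext
        · rw [Category.assoc, hcp, lift_fst_assoc, hy]
        · rw [Category.assoc, hcq, lift_snd]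
    rw [h1, hF]
    refine forall_congr' fun T' => forall_congr' fun t => forall_congr' fun h => ?_
    constructor
    · intro h2
      apply hext
      · rw [hp, hp]
        simp only [Category.assoc, hjp, hjq, MonObj.comp_one, Category.comp_id, _root_.one_mul]
        rw [act_one a hmul, _root_.mul_one]
        exact h2.symm
      · rw [hq, hq]
        exact SplitBc264.torus_comm hQ _ _
    · intro h2
      have h3 := congrArg (fun k => k ≫ p) h2
      simp only [hp, Category.assoc, hjp, hjq, MonObj.comp_one, Category.comp_id, _root_.one_mul] at h3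
      rw [act_one a hmul, _root_.mul_one] at h3
      exact h3.symm
  obtain ⟨_, hc2⟩ := CentNorm900.exists_grpObj c (fun T g => ∀ (T' : Over (Spec (CommRingCat.of K))) (t : T' ⟶ T)
      (h : T' ⟶ Q), (t ≫ g) * (h ≫ j) = (h ≫ j) * (t ≫ g)) key
    (fun T g g' hg hg' T' t h => by
      rw [MonObj.comp_mul, _root_.mul_assoc, hg', ← _root_.mul_assoc, hg, _root_.mul_assoc])
    (fun T T' t h => by rw [MonObj.comp_one, _root_.one_mul, _root_.mul_one])
    (fun T g hg T' t h => by
      rw [GrpObj.comp_inv, inv_mul_eq_iff_eq_mul, ← _root_.mul_assoc, hg, _root_.mul_assoc, mul_inv_cancel,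
        _root_.mul_one])
  have hQa : IsAffineHom Q.hom := TorusAlgClosed.isAffineHom_of_isTorus hQ
  have hQs : Smooth Q.hom := TorusAlgClosed.smooth_of_isTorus hQ
  have hQc : ConnectedSpace Q.left := by
    have := TorusIrr.geometricallyIrreducible_of_isTorus hQ
    have : IrreducibleSpace Q.left := GeometricallyIrreducible.irreducibleSpace_of_subsingleton Q.hom
    infer_instance
  have hQa' : IsAffine Q.left := isAffine_of_isAffineHom Q.hom
  have hP1 : IsAffine (H ⊗ Q).left := inferInstanceAs (IsAffine (pullback H.hom Q.hom))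
  have hP2 : IrreducibleSpace (H ⊗ Q).left := Sga3.H794.RedIdNormal.irreducibleSpace_tensor H Q
  have hP3 : Smooth (H ⊗ Q).hom := by
    rw [Over.tensorObj_hom]
    infer_instance
  let e' : P.left ≅ (H ⊗ Q).left := (Over.forget _).mapIso e
  have hP4 : IsAffine P.left := IsAffine.of_isIso e'.hom
  have hP5 : Smooth P.hom := by
    rw [← Over.w e.hom]
    have : IsIso e.hom.left := inferInstanceAs (IsIso e'.hom)
    infer_instance
  have hP6 : ConnectedSpace P.left :=
    (Scheme.homeoOfIso e').symm.surjective.connectedSpace (Scheme.homeoOfIso e').symm.continuous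
  have hC := S3908.result K P Q j hQ (F ⊗ Q) c ⟨hc2, hc1, key⟩
  have hs : lift (𝟙 F) (1 : F ⟶ Q) ≫ fst F Q = 𝟙 F := lift_fst _ _
  refine Function.Surjective.connectedSpace (f := (fst F Q).left) (fun x => ⟨(lift (𝟙 F) (1 : F ⟶ Q)).left x, ?_⟩)
    (fst F Q).left.continuous
  rw [← Scheme.Hom.comp_apply, ← Over.comp_left, hs]
  rfl

end conn

section bc
variable {S S' : Scheme.{u}} (p : S' ⟶ S) {G X : Over S} [GrpObj G] (a : AlgGrp.Action G X)

open BcPts

lemma lift_bc_act {T : Over S'} (g : (Over.map p).obj T ⟶ G) (x : (Over.map p).obj T ⟶ X) :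
    lift (bcEquiv p T G g) (bcEquiv p T X x) ≫ (a.bc p).act = bcEquiv p T X (lift g x ≫ a.act) :=
  AlgGrp.Action.lift_homEquiv_bc_act p a g x

lemma fixed_bc_iff {T : Over S'} (x : (Over.map p).obj T ⟶ X) :
    Fixed (a.bc p) (bcEquiv p T X x) ↔ Fixed a x := by
  constructor
  · intro h T' t g
    let T'' : Over S' := Over.mk (t.left ≫ T.hom)
    let t'' : T'' ⟶ T := Over.homMk t.left rfl
    let e : (Over.map p).obj T'' ≅ T' := Over.isoMk (Iso.refl _) (by
      have h1 := Over.w t
      simp only [Over.map_obj_hom] at h1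
      simp [T'', ← h1])
    have he : (Over.map p).map t'' = e.hom ≫ t := by
      ext1
      simp [e, t'']
    have h1 := h T'' t'' (bcEquiv p T'' G (e.hom ≫ g))
    rw [← comp_bcEquiv, lift_bc_act] at h1
    have h2 := (bcEquiv p T'' X).injective h1
    rw [he, Category.assoc, ← comp_lift_assoc] at h2
    exact (cancel_epi e.hom).1 h2
  · intro h T' t g
    obtain ⟨g, rfl⟩ := (bcEquiv p T' G).surjective g
    rw [← comp_bcEquiv, lift_bc_act, h]

variable [GrpObj X]

lemma bc_mul (hmul : ∀ (T : Over S) (g : T ⟶ G) (x x' : T ⟶ X),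
      lift g (x * x') ≫ a.act = (lift g x ≫ a.act) * (lift g x' ≫ a.act))
    (T : Over S') (g : T ⟶ Red.bc p G) (x x' : T ⟶ Red.bc p X) :
    lift g (x * x') ≫ (a.bc p).act = (lift g x ≫ (a.bc p).act) * (lift g x' ≫ (a.bc p).act) := by
  obtain ⟨g, rfl⟩ := (bcEquiv p T G).surjective g
  obtain ⟨x, rfl⟩ := (bcEquiv p T X).surjective x
  obtain ⟨x', rfl⟩ := (bcEquiv p T X).surjective x'
  rw [← bcEquiv_mul, lift_bc_act, lift_bc_act, lift_bc_act, hmul, bcEquiv_mul]

omit [GrpObj X] in
lemma bc_univ {F : Over S} (f : F ⟶ X)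
    (hF : ∀ (T : Over S) (x : T ⟶ X), (∃ y : T ⟶ F, y ≫ f = x) ↔ Fixed a x)
    (T : Over S') (x : T ⟶ Red.bc p X) :
    (∃ y : T ⟶ Red.bc p F, y ≫ (Over.pullback p).map f = x) ↔ Fixed (a.bc p) x := by
  obtain ⟨x, rfl⟩ := (bcEquiv p T X).surjective x
  rw [fixed_bc_iff, ← hF]
  constructor
  · rintro ⟨y, hy⟩
    obtain ⟨y, rfl⟩ := (bcEquiv p T F).surjective y
    rw [← bcEquiv_comp] at hy
    exact ⟨y, (bcEquiv p T X).injective hy⟩
  · rintro ⟨y, hy⟩
    exact ⟨bcEquiv p T F y, by rw [← bcEquiv_comp, hy]⟩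

end bc

section main
variable {S : Scheme.{u}} {Q H : Over S} [GrpObj Q] [GrpObj H] (a : AlgGrp.Action Q H)

/-- The fixed points of a torus acting by automorphisms on a smooth affine group with connected fibres have connected
fibres. -/
theorem connected_fibres (hQ : Red.IsTorus Q) [IsAffineHom H.hom] [Smooth H.hom]
    (hconn : ∀ s : S, _root_.IsConnected (H.hom.base ⁻¹' {s}))
    (hmul : ∀ (T : Over S) (g : T ⟶ Q) (x x' : T ⟶ H),
      lift g (x * x') ≫ a.act = (lift g x ≫ a.act) * (lift g x' ≫ a.act))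
    {F : Over S} (f : F ⟶ H) [Mono f]
    (hF : ∀ (T : Over S) (x : T ⟶ H), (∃ y : T ⟶ F, y ≫ f = x) ↔ Fixed a x) (s : S) :
    _root_.IsConnected (F.hom.base ⁻¹' {s}) := by
  apply AdAff.isConnected_fibre F s
  have h1 : IsAffineHom (Red.bc (Red.geomPt s) H).hom :=
    inferInstanceAs (IsAffineHom (pullback.snd H.hom (Red.geomPt s)))
  have h2 : IsAffine (Red.bc (Red.geomPt s) H).left := isAffine_of_isAffineHom (Red.bc (Red.geomPt s) H).hom
  have h3 : Smooth (Red.bc (Red.geomPt s) H).hom :=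
    inferInstanceAs (Smooth (pullback.snd H.hom (Red.geomPt s)))
  have h4 : ConnectedSpace (Red.bc (Red.geomPt s) H).left := RadOpen.connectedSpace_bc H hconn (Red.geomPt s)
  have h5 : Mono ((Over.pullback (Red.geomPt s)).map f) := inferInstance
  exact connected_fixed (a.bc (Red.geomPt s)) (TorusBc.isTorus_bc (Red.geomPt s) hQ) (bc_mul _ a hmul)
    ((Over.pullback (Red.geomPt s)).map f) (bc_univ _ a f hF)

end main

end K979.FixTor
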